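import Mathlib

/-!
# Relative length of submodules

For submodules `L M` of an `A`-module `V`, `rl L M` is the length of `M / (L ∩ M)`.
-/

namespace Groth.Agent.Lib.Helper24.RelLen

open Submodule

variable {A : Type*} [CommRing A] {V : Type*} [AddCommGroup V] [Module A V]

/-- relative length: the length of `M / (L ∩ M)`. -/
noncomputable def rl (L M : Submodule A V) : ℕ∞ :=
  Module.length A (↥M ⧸ L.submoduleOf M)

lemma rl_eq_zero_of_le {L M : Submodule A V} (h : M ≤ L) : rl L M = 0 := by
  unfold rl
  rw [Module.length_eq_zero_iff]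
  have : L.submoduleOf M = ⊤ := Submodule.submoduleOf_eq_top.mpr h
  rw [this]
  infer_instance

lemma rl_self (M : Submodule A V) : rl M M = 0 := rl_eq_zero_of_le le_rfl

lemma submoduleOf_inf_left (L M : Submodule A V) :
    (L ⊓ M).submoduleOf M = L.submoduleOf M := by
  ext x
  simp [Submodule.submoduleOf]

lemma submoduleOf_inf_right (L M : Submodule A V) :
    (M ⊓ L).submoduleOf M = L.submoduleOf M := by
  ext x
  simp [Submodule.submoduleOf]

lemma rl_inf_left (L M : Submodule A V) : rl (L ⊓ M) M = rl L M := by
  unfold rl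
  rw [submoduleOf_inf_left]

lemma rl_inf_right (L M : Submodule A V) : rl (M ⊓ L) M = rl L M := by
  unfold rl
  rw [submoduleOf_inf_right]

/-- additivity of relative length along `L ≤ M ≤ N`. -/
lemma rl_add {L M N : Submodule A V} (hLM : L ≤ M) (hMN : M ≤ N) :
    rl L N = rl L M + rl M N := by
  unfold rl
  -- f : M / L → N / L, g : N / L → N / M
  let f : (↥M ⧸ L.submoduleOf M) →ₗ[A] (↥N ⧸ L.submoduleOf N) :=
    Submodule.mapQ _ _ (Submodule.inclusion hMN) (by
      intro x hx
      exact hx)
  let g : (↥N ⧸ L.submoduleOf N) →ₗ[A] (↥N ⧸ M.submoduleOf N) :=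
    Submodule.mapQ _ _ LinearMap.id (by
      intro x hx
      exact hLM hx)
  have hf : Function.Injective f := by
    rw [← LinearMap.ker_eq_bot, LinearMap.ker_eq_bot']
    intro x hx
    obtain ⟨x, rfl⟩ := Submodule.Quotient.mk_surjective _ x
    have h1 : f (Submodule.Quotient.mk x) = Submodule.Quotient.mk (Submodule.inclusion hMN x) := rfl
    rw [h1, Submodule.Quotient.mk_eq_zero] at hx
    rw [Submodule.Quotient.mk_eq_zero]
    exact hx
  have hg : Function.Surjective g := by
    intro y
    obtain ⟨y, rfl⟩ := Submodule.Quotient.mk_surjective _ y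
    exact ⟨Submodule.Quotient.mk y, rfl⟩
  have hex : Function.Exact f g := by
    intro y
    constructor
    · intro hy
      obtain ⟨y, rfl⟩ := Submodule.Quotient.mk_surjective _ y
      have h1 : g (Submodule.Quotient.mk y) = Submodule.Quotient.mk y := rfl
      rw [h1, Submodule.Quotient.mk_eq_zero] at hy
      exact ⟨Submodule.Quotient.mk ⟨y.1, hy⟩, rfl⟩
    · rintro ⟨x, rfl⟩
      obtain ⟨x, rfl⟩ := Submodule.Quotient.mk_surjective _ x
      have h1 : g (f (Submodule.Quotient.mk x)) =
        Submodule.Quotient.mk (Submodule.inclusion hMN x) := rfl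
      rw [h1, Submodule.Quotient.mk_eq_zero]
      exact x.2
  exact Module.length_eq_add_of_exact f g hf hg hex

/-- invariance of relative length under injective linear maps. -/
lemma rl_map {V' : Type*} [AddCommGroup V'] [Module A V'] (e : V →ₗ[A] V')
    (he : Function.Injective e) (L M : Submodule A V) :
    rl (L.map e) (M.map e) = rl L M := by
  unfold rl
  symm
  refine LinearEquiv.length_eq (Submodule.Quotient.equiv _ _ (Submodule.equivMapOfInjective e he M) ?_)
  ext ⟨y, hy⟩
  simp only [Submodule.mem_map, Submodule.submoduleOf, Submodule.mem_comap, Submodule.subtype_apply,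
    Subtype.exists]
  constructor
  · rintro ⟨x, hxM, hxL, hxy⟩
    have : e x = y := by
      have := congrArg Subtype.val hxy
      simpa using this
    exact ⟨x, hxL, this⟩
  · rintro ⟨x, hxL, rfl⟩
    obtain ⟨x', hx'M, hx'⟩ := hy
    have hxx : x' = x := he hx'
    subst hxx
    exact ⟨x', hx'M, hxL, rfl⟩

end Groth.Agent.Lib.Helper24.RelLen
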