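import Mathlib
import Groth.Agent.Lib.Helper24.Lattice.RelLen

/-!
# Lattices over a one-dimensional Noetherian domain and their distance
-/

namespace Groth.Agent.Lib.Helper24.LatDist

open Submodule Groth.Agent.Lib.Helper24.RelLen

variable {A : Type*} [CommRing A] [IsDomain A]
variable {K : Type*} [Field K] [Algebra A K] [IsFractionRing A K]
variable {V : Type*} [AddCommGroup V] [Module K V] [Module A V] [IsScalarTower A K V]

/-- elements of the `K`-span of an `A`-submodule have a nonzero multiple in it. -/
lemma exists_smul_mem_of_mem_span (N : Submodule A V) (v : V)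
    (hv : v ∈ Submodule.span K (N : Set V)) : ∃ a : A, a ≠ 0 ∧ a • v ∈ N := by
  induction hv using Submodule.span_induction with
  | mem x hx => exact ⟨1, one_ne_zero, by simpa using hx⟩
  | zero => exact ⟨1, one_ne_zero, by simp⟩
  | add x y _ _ hx hy =>
    obtain ⟨a, ha, hax⟩ := hx
    obtain ⟨b, hb, hby⟩ := hy
    refine ⟨a * b, mul_ne_zero ha hb, ?_⟩
    rw [smul_add]
    refine N.add_mem ?_ ?_
    · rw [mul_comm, mul_smul]; exact N.smul_mem _ hax
    · rw [mul_smul]; exact N.smul_mem _ hby
  | smul c x _ hx =>
    obtain ⟨a, ha, hax⟩ := hx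
    obtain ⟨p, q, hq, rfl⟩ := IsFractionRing.div_surjective (A := A) c
    have hq0 : q ≠ 0 := nonZeroDivisors.ne_zero hq
    refine ⟨q * a, mul_ne_zero hq0 ha, ?_⟩
    have hqK : algebraMap A K q ≠ 0 := by
      simpa using (IsFractionRing.injective A K).ne hq0
    have : (q * a) • ((algebraMap A K p / algebraMap A K q) • x) = p • (a • x) := by
      rw [← algebraMap_smul K (q * a), ← algebraMap_smul K p, ← algebraMap_smul K a, smul_smul,
        smul_smul, map_mul]
      congr 1
      field_simp
    rw [this]
    exact N.smul_mem _ hax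

lemma exists_smul_mem_of_isLattice (N : Submodule A V) [Submodule.IsLattice K N] (v : V) :
    ∃ a : A, a ≠ 0 ∧ a • v ∈ N :=
  exists_smul_mem_of_mem_span N v (by rw [Submodule.IsLattice.span_eq_top]; trivial)

/-- a finitely generated submodule has a nonzero multiple inside any lattice. -/
lemma exists_smul_le (M N : Submodule A V) (hM : M.FG) [Submodule.IsLattice K N] :
    ∃ a : A, a ≠ 0 ∧ ∀ m ∈ M, a • m ∈ N := by
  obtain ⟨s, rfl⟩ := hM
  classical
  induction s using Finset.induction_on with
  | empty => exact ⟨1, one_ne_zero, by simp⟩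
  | insert x s _ ih =>
    obtain ⟨a, ha, has⟩ := ih
    obtain ⟨b, hb, hbx⟩ := exists_smul_mem_of_isLattice (K := K) N x
    refine ⟨a * b, mul_ne_zero ha hb, ?_⟩
    intro m hm
    rw [Finset.coe_insert, Submodule.mem_span_insert] at hm
    obtain ⟨c, z, hz, rfl⟩ := hm
    rw [smul_add]
    refine N.add_mem ?_ ?_
    · rw [smul_comm, mul_smul]
      exact N.smul_mem _ (N.smul_mem _ hbx)
    · rw [mul_comm, mul_smul]
      exact N.smul_mem _ (has z hz)

variable [IsNoetherianRing A]

/-- the intersection of two lattices is a lattice (no PID hypothesis). -/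
lemma isLattice_inf (M N : Submodule A V) [Submodule.IsLattice K M] [Submodule.IsLattice K N] :
    Submodule.IsLattice K (M ⊓ N) where
  fg := by
    have : IsNoetherian A ↥M := isNoetherian_of_fg_of_noetherian M Submodule.IsLattice.fg
    have : IsNoetherian A ↥(M ⊓ N) := isNoetherian_of_le inf_le_left
    rw [← Module.Finite.iff_fg]
    infer_instance
  span_eq_top := by
    rw [eq_top_iff]
    intro v _
    obtain ⟨a, ha, haM⟩ := exists_smul_le (K := K) M N Submodule.IsLattice.fg
    obtain ⟨b, hb, hbv⟩ := exists_smul_mem_of_isLattice (K := K) M v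
    have hmem : (a * b) • v ∈ M ⊓ N := by
      refine ⟨?_, ?_⟩
      · rw [mul_smul]; exact M.smul_mem _ hbv
      · rw [mul_smul]; exact haM _ hbv
    have hab : algebraMap A K (a * b) ≠ 0 := by
      simpa using (IsFractionRing.injective A K).ne (mul_ne_zero ha hb)
    have : v = (algebraMap A K (a * b))⁻¹ • ((a * b) • v) := by
      rw [← algebraMap_smul K (a * b) v, smul_smul, inv_mul_cancel₀ hab, one_smul]
    rw [this]
    exact Submodule.smul_mem _ _ (Submodule.subset_span hmem)

/-- image of a lattice under a `K`-linear automorphism is a lattice. -/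
lemma isLattice_map (M : Submodule A V) [Submodule.IsLattice K M] (φ : V →ₗ[K] V)
    (hφ : Function.Surjective φ) :
    Submodule.IsLattice K (M.map (φ.restrictScalars A)) where
  fg := Submodule.FG.map _ Submodule.IsLattice.fg
  span_eq_top := by
    have key : ∀ w ∈ Submodule.span K (M : Set V),
        φ w ∈ Submodule.span K ((M.map (φ.restrictScalars A) : Submodule A V) : Set V) := by
      intro w hw
      induction hw using Submodule.span_induction with
      | mem x hx => exact Submodule.subset_span ⟨x, hx, rfl⟩
      | zero => simp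
      | add x y _ _ hx hy => rw [map_add]; exact Submodule.add_mem _ hx hy
      | smul c x _ hx => rw [map_smul]; exact Submodule.smul_mem _ _ hx
    rw [eq_top_iff]
    intro v _
    obtain ⟨w, rfl⟩ := hφ v
    exact key w (by rw [Submodule.IsLattice.span_eq_top]; trivial)

variable [Ring.KrullDimLE 1 A]

/-- finiteness of relative length between lattices. -/
lemma rl_ne_top (L M : Submodule A V) [Submodule.IsLattice K L] [Submodule.IsLattice K M] :
    rl L M ≠ ⊤ := by
  obtain ⟨a, ha, haM⟩ := exists_smul_le (K := K) M L Submodule.IsLattice.fg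
  unfold rl
  set Q := ↥M ⧸ L.submoduleOf M
  have hfin : Module.Finite A Q := inferInstance
  obtain ⟨n, s, hs⟩ := Module.Finite.exists_fin (R := A) (M := Q)
  -- `a` kills `Q`
  have hkill : ∀ q : Q, a • q = 0 := by
    intro q
    obtain ⟨m, rfl⟩ := Submodule.Quotient.mk_surjective _ q
    rw [← Submodule.Quotient.mk_smul, Submodule.Quotient.mk_eq_zero]
    exact haM _ m.2
  -- surjection from (A/a)^n
  let fi : Fin n → ((A ⧸ Ideal.span {a}) →ₗ[A] Q) := fun i =>
    Submodule.liftQ (Ideal.span {a}) (LinearMap.toSpanSingleton A Q (s i)) (by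
      rw [Ideal.span_le]
      intro x hx
      rw [Set.mem_singleton_iff] at hx
      rw [hx]
      change a ∈ LinearMap.ker _
      rw [LinearMap.mem_ker, LinearMap.toSpanSingleton_apply]
      exact hkill _)
  let F : (Fin n → (A ⧸ Ideal.span {a})) →ₗ[A] Q :=
    ∑ i, (fi i) ∘ₗ (LinearMap.proj i)
  have hF : Function.Surjective F := by
    rw [← LinearMap.range_eq_top, eq_top_iff, ← hs, Submodule.span_le]
    rintro _ ⟨i, rfl⟩
    refine ⟨Pi.single i 1, ?_⟩
    classical
    simp only [F, LinearMap.sum_apply, LinearMap.comp_apply, LinearMap.proj_apply]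
    rw [Finset.sum_eq_single i]
    · simp only [Pi.single_eq_same]
      change (Submodule.liftQ (Ideal.span {a}) (LinearMap.toSpanSingleton A Q (s i)) _)
        (Submodule.Quotient.mk 1) = s i
      rw [Submodule.liftQ_apply]
      simp
    · intro j _ hj
      simp [Pi.single_eq_of_ne hj]
    · simp
  have hle := Module.length_le_of_surjective F hF
  have hfinlen : Module.length A (Fin n → (A ⧸ Ideal.span {a})) ≠ ⊤ := by
    rw [Module.length_pi_of_fintype]
    have h1 : Module.length A (A ⧸ Ideal.span {a}) ≠ ⊤ :=
      Ring.ord_ne_top (mem_nonZeroDivisors_of_ne_zero ha)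
    exact ENat.sum_ne_top.mpr (fun i _ => h1) 
  exact ne_top_of_le_ne_top hfinlen hle

end Groth.Agent.Lib.Helper24.LatDist
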