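import Mathlib
import Groth.Agent.Lib.Helper24.Lattice.Dist

/-!
# The distance function on lattices
-/

namespace Groth.Agent.Lib.Helper24.LatDist

open Submodule Groth.Agent.Lib.Helper24.RelLen

variable {A : Type*} [CommRing A] [IsDomain A] [IsNoetherianRing A] [Ring.KrullDimLE 1 A]
variable {K : Type*} [Field K] [Algebra A K] [IsFractionRing A K]
variable {V : Type*} [AddCommGroup V] [Module K V] [Module A V] [IsScalarTower A K V]

/-- the distance of two submodules (meaningful for lattices). -/
noncomputable def dist (M N : Submodule A V) : ℤ :=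
  ((rl (M ⊓ N) M).toNat : ℤ) - ((rl (M ⊓ N) N).toNat : ℤ)

lemma toNat_rl_add (L M N : Submodule A V) [Submodule.IsLattice K L] [Submodule.IsLattice K M]
    [Submodule.IsLattice K N] (hLM : L ≤ M) (hMN : M ≤ N) :
    ((rl L N).toNat : ℤ) = (rl L M).toNat + (rl M N).toNat := by
  rw [rl_add hLM hMN, ENat.toNat_add (rl_ne_top (K := K) L M) (rl_ne_top (K := K) M N)]
  push_cast
  rfl

lemma dist_eq_of_le (L M N : Submodule A V) [Submodule.IsLattice K L] [Submodule.IsLattice K M]
    [Submodule.IsLattice K N] (hM : L ≤ M) (hN : L ≤ N) :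
    dist M N = ((rl L M).toNat : ℤ) - ((rl L N).toNat : ℤ) := by
  haveI := isLattice_inf (K := K) M N
  have hLI : L ≤ M ⊓ N := le_inf hM hN
  have h1 := toNat_rl_add (K := K) L (M ⊓ N) M hLI inf_le_left
  have h2 := toNat_rl_add (K := K) L (M ⊓ N) N hLI inf_le_right
  unfold dist
  omega

lemma dist_chain (M N P : Submodule A V) [Submodule.IsLattice K M] [Submodule.IsLattice K N]
    [Submodule.IsLattice K P] : dist M P = dist M N + dist N P := by
  haveI := isLattice_inf (K := K) M N
  haveI := isLattice_inf (K := K) (M ⊓ N) P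
  have hM : M ⊓ N ⊓ P ≤ M := inf_le_left.trans inf_le_left
  have hN : M ⊓ N ⊓ P ≤ N := inf_le_left.trans inf_le_right
  have hP : M ⊓ N ⊓ P ≤ P := inf_le_right
  rw [dist_eq_of_le (K := K) (M ⊓ N ⊓ P) M P hM hP, dist_eq_of_le (K := K) (M ⊓ N ⊓ P) M N hM hN,
    dist_eq_of_le (K := K) (M ⊓ N ⊓ P) N P hN hP]
  ring

omit [IsDomain A] [IsNoetherianRing A] [Ring.KrullDimLE 1 A] in
lemma dist_self (M : Submodule A V) : dist M M = 0 := by
  unfold dist
  simp

omit [IsDomain A] [IsNoetherianRing A] [Ring.KrullDimLE 1 A] in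
lemma dist_comm (M N : Submodule A V) : dist N M = - dist M N := by
  unfold dist
  rw [inf_comm N M]
  ring

omit [IsDomain A] [IsNoetherianRing A] [Ring.KrullDimLE 1 A] in
lemma dist_of_le (M N : Submodule A V) (h : N ≤ M) : dist M N = ((rl N M).toNat : ℤ) := by
  unfold dist
  rw [inf_eq_right.mpr h, rl_self]
  simp

omit [IsDomain A] [IsNoetherianRing A] [Ring.KrullDimLE 1 A] in
lemma dist_map (e : V →ₗ[A] V) (he : Function.Injective e) (M N : Submodule A V) :
    dist (M.map e) (N.map e) = dist M N := by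
  unfold dist
  rw [← Submodule.map_inf e he, rl_map e he, rl_map e he]

end Groth.Agent.Lib.Helper24.LatDist
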