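import Mathlib
import Groth.Agent.Lib.Helper24.Lattice.DistFn

/-!
# The index function of an automorphism and the standard lattice
-/

namespace Groth.Agent.Lib.Helper24.LatDist

open Submodule Module Groth.Agent.Lib.Helper24.RelLen

variable {A : Type*} [CommRing A] [IsDomain A] [IsNoetherianRing A] [Ring.KrullDimLE 1 A]
variable {K : Type*} [Field K] [Algebra A K] [IsFractionRing A K]
variable {V : Type*} [AddCommGroup V] [Module K V] [Module A V] [IsScalarTower A K V]

/-- the action of a `K`-linear endomorphism on `A`-submodules. -/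
abbrev act (g : V →ₗ[K] V) (M : Submodule A V) : Submodule A V := M.map (g.restrictScalars A)

omit [IsDomain A] [IsNoetherianRing A] [Ring.KrullDimLE 1 A] [IsFractionRing A K] in
lemma act_comp (g h : V →ₗ[K] V) (M : Submodule A V) : act (g ∘ₗ h) M = act g (act h M) := by
  unfold act
  rw [← Submodule.map_comp]
  rfl

/-- the index `dist M (g M)`. -/
noncomputable def F (M : Submodule A V) (g : V →ₗ[K] V) : ℤ := dist M (act g M)

lemma F_comp (M : Submodule A V) [Submodule.IsLattice K M] (g h : V →ₗ[K] V)
    (hg : Function.Bijective g) (hh : Function.Bijective h) :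
    F M (g ∘ₗ h) = F M g + F M h := by
  unfold F
  haveI : Submodule.IsLattice K (act g M) := isLattice_map M g hg.2
  haveI : Submodule.IsLattice K (act h M) := isLattice_map M h hh.2
  haveI : Submodule.IsLattice K (act (g ∘ₗ h) M) := isLattice_map M (g ∘ₗ h) (hg.2.comp hh.2)
  rw [dist_chain (K := K) M (act g M) (act (g ∘ₗ h) M), act_comp,
    dist_map (g.restrictScalars A) hg.1]

lemma F_indep (M N : Submodule A V) [Submodule.IsLattice K M] [Submodule.IsLattice K N]
    (g : V →ₗ[K] V) (hg : Function.Bijective g) : F M g = F N g := by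
  unfold F
  haveI : Submodule.IsLattice K (act g M) := isLattice_map M g hg.2
  haveI : Submodule.IsLattice K (act g N) := isLattice_map N g hg.2
  rw [dist_chain (K := K) N M (act g N), dist_chain (K := K) M (act g M) (act g N),
    dist_map (g.restrictScalars A) hg.1, dist_comm M N]
  ring

section Std

variable {n : ℕ} (b : Basis (Fin n) K V)

/-- the standard lattice attached to a basis. -/
abbrev M0 : Submodule A V := span A (Set.range b)

omit [IsDomain A] [IsNoetherianRing A] [Ring.KrullDimLE 1 A] [IsFractionRing A K] in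
lemma isLattice_M0 : Submodule.IsLattice K (M0 (A := A) b) where
  fg := Submodule.fg_span (Set.finite_range b)
  span_eq_top := by
    rw [eq_top_iff, ← b.span_eq]
    exact Submodule.span_mono (Submodule.subset_span)

/-- a matrix over `K` with entries coming from `A`. -/
def IsInt (N : Matrix (Fin n) (Fin n) K) : Prop := ∀ k l, ∃ a : A, algebraMap A K a = N k l

omit [IsDomain A] [IsNoetherianRing A] [Ring.KrullDimLE 1 A] [IsFractionRing A K] in
lemma act_le_of_isInt (N : Matrix (Fin n) (Fin n) K) (hN : IsInt (A := A) N) :
    act (Matrix.toLin b b N) (M0 (A := A) b) ≤ M0 b := by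
  unfold act M0
  rw [Submodule.map_le_iff_le_comap, Submodule.span_le]
  rintro _ ⟨k, rfl⟩
  simp only [SetLike.mem_coe, mem_comap, LinearMap.coe_restrictScalars, Matrix.toLin_self]
  refine Submodule.sum_mem _ (fun l _ => ?_)
  obtain ⟨a, ha⟩ := hN l k
  rw [← ha, algebraMap_smul]
  exact Submodule.smul_mem _ _ (Submodule.subset_span ⟨l, rfl⟩)

omit [IsDomain A] [IsNoetherianRing A] [Ring.KrullDimLE 1 A] [IsFractionRing A K] in
lemma act_eq_of_isInt (N N' : Matrix (Fin n) (Fin n) K) (hN : IsInt (A := A) N)
    (hN' : IsInt (A := A) N') (h : N * N' = 1) :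
    act (Matrix.toLin b b N) (M0 (A := A) b) = M0 b := by
  refine le_antisymm (act_le_of_isInt b N hN) ?_
  have h1 : act (Matrix.toLin b b (N * N')) (M0 (A := A) b) = M0 b := by
    rw [h, Matrix.toLin_one]
    unfold act
    ext x
    simp
  rw [Matrix.toLin_mul b b b, act_comp] at h1
  conv_lhs => rw [← h1]
  exact Submodule.map_mono (act_le_of_isInt b N' hN')

end Std

end Groth.Agent.Lib.Helper24.LatDist
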