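import Mathlib
import Groth.Agent.Lib.Helper24.Lattice.Std

/-!
# The index of a diagonal matrix with integral entries
-/

namespace Groth.Agent.Lib.Helper24.LatDist

open Submodule Module Groth.Agent.Lib.Helper24.RelLen

variable {A : Type*} [CommRing A] [IsDomain A] [IsNoetherianRing A] [Ring.KrullDimLE 1 A]
variable {K : Type*} [Field K] [Algebra A K] [IsFractionRing A K]
variable {V : Type*} [AddCommGroup V] [Module K V] [Module A V] [IsScalarTower A K V]
variable {n : ℕ} (b : Basis (Fin n) K V)

/-- the diagonal matrix over `K` with entries from `A`. -/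
abbrev diagK (x : Fin n → A) : Matrix (Fin n) (Fin n) K :=
  Matrix.diagonal (fun i => algebraMap A K (x i))

omit [IsDomain A] [IsNoetherianRing A] [Ring.KrullDimLE 1 A] [IsFractionRing A K] in
lemma isInt_diagK (x : Fin n → A) : IsInt (A := A) (diagK (K := K) x) := by
  intro k l
  by_cases h : k = l
  · subst h
    exact ⟨x k, by simp [diagK]⟩
  · exact ⟨0, by simp [diagK, Matrix.diagonal_apply_ne _ h]⟩

omit [IsDomain A] [IsNoetherianRing A] [Ring.KrullDimLE 1 A] [IsFractionRing A K] in
lemma range_mulLeft_pi (x : Fin n → A) :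
    LinearMap.range (LinearMap.mulLeft A x) =
      Submodule.pi Set.univ (fun i => (Ideal.span {x i} : Submodule A A)) := by
  ext z
  simp only [LinearMap.mem_range, LinearMap.mulLeft_apply, Submodule.mem_pi, Set.mem_univ,
    forall_true_left]
  constructor
  · rintro ⟨y, rfl⟩ i
    rw [Pi.mul_apply]
    exact Ideal.mem_span_singleton'.mpr ⟨y i, mul_comm _ _⟩
  · intro h
    choose y hy using fun i => Ideal.mem_span_singleton'.mp (h i)
    refine ⟨y, ?_⟩
    ext i
    rw [Pi.mul_apply, mul_comm, hy]

lemma rl_diag (x : Fin n → A) :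
    rl (act (Matrix.toLin b b (diagK (K := K) x)) (M0 (A := A) b)) (M0 b) =
      ∑ i, Ring.ord A (x i) := by
  classical
  set D := Matrix.toLin b b (diagK (K := K) x) with hD
  have hle : ∀ m ∈ M0 (A := A) b, (D.restrictScalars A) m ∈ M0 (A := A) b := fun m hm =>
    act_le_of_isInt b _ (isInt_diagK x) ⟨m, hm, rfl⟩
  let D' : ↥(M0 (A := A) b) →ₗ[A] ↥(M0 (A := A) b) := (D.restrictScalars A).restrict hle
  have claim1 : (act D (M0 (A := A) b)).submoduleOf (M0 b) = LinearMap.range D' := by
    ext ⟨m, hm⟩
    simp only [Submodule.submoduleOf, Submodule.mem_comap, Submodule.subtype_apply, act,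
      Submodule.mem_map, LinearMap.mem_range, Subtype.exists]
    constructor
    · rintro ⟨m', hm', h⟩
      exact ⟨m', hm', Subtype.ext h⟩
    · rintro ⟨m', hm', h⟩
      exact ⟨m', hm', congrArg Subtype.val h⟩
  let e : ↥(M0 (A := A) b) ≃ₗ[A] (Fin n → A) := (b.restrictScalars A).equivFun
  have claim2 : e.toLinearMap ∘ₗ D' = (LinearMap.mulLeft A x) ∘ₗ e.toLinearMap := by
    refine Basis.ext (b.restrictScalars A) (fun i => ?_)
    have h1 : D' (b.restrictScalars A i) = x i • (b.restrictScalars A i) := by
      apply Subtype.ext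
      change D ((b.restrictScalars A i : V)) = _
      rw [Basis.restrictScalars_apply, hD, Matrix.toLin_self]
      rw [Finset.sum_eq_single i]
      · simp [diagK]
      · intro j _ hj
        simp [diagK, Matrix.diagonal_apply_ne _ hj]
      · simp
    simp only [LinearMap.comp_apply, LinearEquiv.coe_coe, h1, map_smul]
    have h2 : e (b.restrictScalars A i) = Pi.single i 1 := by
      ext j
      simp only [e, Basis.equivFun_apply, Basis.repr_self, Finsupp.single_apply, Pi.single_apply]
      simp only [eq_comm]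
    rw [h2, LinearMap.mulLeft_apply]
    ext j
    by_cases hj : j = i
    · subst hj; simp
    · simp [Pi.single_eq_of_ne hj]
  have claim3 : (LinearMap.range D').map e.toLinearMap = LinearMap.range (LinearMap.mulLeft A x) := by
    rw [← LinearMap.range_comp, claim2, LinearMap.range_comp, LinearEquiv.range, Submodule.map_top]
  unfold rl
  rw [claim1]
  have hq : (LinearMap.range D').map (e : ↥(M0 (A := A) b) →ₗ[A] (Fin n → A)) =
      Submodule.pi Set.univ (fun i => (Ideal.span {x i} : Submodule A A)) := by
    rw [← range_mulLeft_pi]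
    exact claim3
  rw [(Submodule.Quotient.equiv _ _ e hq).length_eq,
    (Submodule.quotientPi (fun i => (Ideal.span {x i} : Submodule A A))).length_eq,
    Module.length_pi_of_fintype]
  rfl

lemma F_diag (x : Fin n → A) (hx : ∀ i, x i ≠ 0) :
    F (M0 (A := A) b) (Matrix.toLin b b (diagK (K := K) x)) =
      ∑ i, ((Ring.ord A (x i)).toNat : ℤ) := by
  unfold F
  rw [dist_of_le _ _ (act_le_of_isInt b _ (isInt_diagK x)), rl_diag]
  have h : ∀ i, Ring.ord A (x i) = (((Ring.ord A (x i)).toNat : ℕ) : ℕ∞) := fun i =>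
    (ENat.natCast_toNat (Ring.ord_ne_top (mem_nonZeroDivisors_of_ne_zero (hx i)))).symm
  have h2 : (∑ i, Ring.ord A (x i)) = ((∑ i, (Ring.ord A (x i)).toNat : ℕ) : ℕ∞) := by
    rw [Nat.cast_sum]
    exact Finset.sum_congr rfl (fun i _ => h i)
  rw [h2, ENat.toNat_natCast]
  push_cast
  rfl

end Groth.Agent.Lib.Helper24.LatDist
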