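import Mathlib
import Groth.Prelude.Def_Tame
import Groth.Agent.Lib.Helper24.Lattice.Diag

/-!
# Lattice index of an automorphism equals the order of its determinant
-/

namespace Groth.Agent.Lib.Helper24.LatDist

variable {A : Type*} [CommRing A] [IsDomain A] [IsNoetherianRing A] [Ring.KrullDimLE 1 A]
variable {K : Type*} [Field K] [Algebra A K] [IsFractionRing A K]

lemma ordZ_eq (f : K) :
    CycAlg.ordFrac A K f =
      WithZero.recZeroCoe (motive := fun _ => ℤ) 0 (fun z => Multiplicative.toAdd z)
        (Ring.ordFrac A f) := by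
  unfold CycAlg.ordFrac
  have h : IsNoetherianRing A ∧ Ring.KrullDimLE 1 A ∧ Nontrivial A ∧ IsFractionRing A K :=
    ⟨inferInstance, inferInstance, inferInstance, inferInstance⟩
  rw [dif_pos h]

lemma ordZ_mul {x y : K} (hx : x ≠ 0) (hy : y ≠ 0) :
    CycAlg.ordFrac A K (x * y) = CycAlg.ordFrac A K x + CycAlg.ordFrac A K y := by
  rw [ordZ_eq, ordZ_eq, ordZ_eq, map_mul]
  have h1 : Ring.ordFrac A x ≠ 0 := (map_ne_zero _).mpr hx
  have h2 : Ring.ordFrac A y ≠ 0 := (map_ne_zero _).mpr hy
  obtain ⟨u, hu⟩ := WithZero.ne_zero_iff_exists.mp h1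
  obtain ⟨v, hv⟩ := WithZero.ne_zero_iff_exists.mp h2
  rw [← hu, ← hv, ← WithZero.coe_mul, WithZero.recZeroCoe_coe, WithZero.recZeroCoe_coe,
    WithZero.recZeroCoe_coe, toAdd_mul]

lemma ordZ_one : CycAlg.ordFrac A K (1 : K) = 0 := by
  rw [ordZ_eq, map_one]
  rfl

lemma ordZ_algebraMap {a : A} (ha : a ≠ 0) :
    CycAlg.ordFrac A K (algebraMap A K a) = ((Ring.ord A a).toNat : ℤ) := by
  rw [ordZ_eq, Ring.ordFrac_eq_ord A ha]
  have hnz : a ∈ nonZeroDivisors A := mem_nonZeroDivisors_of_ne_zero ha
  have hfin : Ring.ord A a = ((Ring.ord A a).toNat : ℕ∞) :=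
    (ENat.natCast_toNat (Ring.ord_ne_top hnz)).symm
  rw [Ring.ordMonoidWithZeroHom_eq_coe A hnz hfin]
  simp

lemma ordZ_prod {ι : Type*} (s : Finset ι) (d : ι → K) (hd : ∀ i ∈ s, d i ≠ 0) :
    CycAlg.ordFrac A K (∏ i ∈ s, d i) = ∑ i ∈ s, CycAlg.ordFrac A K (d i) := by
  classical
  induction s using Finset.induction_on with
  | empty => simpa using ordZ_one (A := A) (K := K)
  | insert i s hi ih =>
    rw [Finset.prod_insert hi, Finset.sum_insert hi,
      ordZ_mul (hd i (Finset.mem_insert_self i s))
        (Finset.prod_ne_zero_iff.mpr (fun j hj => hd j (Finset.mem_insert_of_mem hj))),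
      ih (fun j hj => hd j (Finset.mem_insert_of_mem hj))]


open Submodule Module Groth.Agent.Lib.Helper24.RelLen

variable {V : Type*} [AddCommGroup V] [Module K V] [Module A V] [IsScalarTower A K V]
variable {n : ℕ} (b : Basis (Fin n) K V)

omit [IsDomain A] [IsNoetherianRing A] [Ring.KrullDimLE 1 A] [IsFractionRing A K] [Module A V]
  [IsScalarTower A K V] in
lemma bijective_toLin (N : Matrix (Fin n) (Fin n) K) (hN : N.det ≠ 0) :
    Function.Bijective (Matrix.toLin b b N) := by
  have h : LinearMap.det (Matrix.toLin b b N) ≠ 0 := by rwa [LinearMap.det_toLin]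
  haveI : FiniteDimensional K V := Module.Finite.of_basis b
  have h2 := (LinearMap.equivOfDetNeZero _ h).bijective
  have h3 : ⇑(LinearMap.equivOfDetNeZero _ h) = ⇑(Matrix.toLin b b N) := by
    ext v
    simp [LinearMap.equivOfDetNeZero]
  rwa [h3] at h2

omit [IsDomain A] [IsNoetherianRing A] [Ring.KrullDimLE 1 A] [IsFractionRing A K] in
lemma isInt_transvection (i j : Fin n) (p : A) :
    IsInt (A := A) (Matrix.transvection i j (algebraMap A K p)) := by
  intro k l
  refine ⟨(if k = l then 1 else 0) + (if i = k ∧ j = l then p else 0), ?_⟩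
  simp only [Matrix.transvection, Matrix.add_apply, Matrix.one_apply, Matrix.single_apply, map_add]
  congr 1
  · split_ifs <;> simp
  · split_ifs <;> simp

lemma F_transvection_int (i j : Fin n) (hij : i ≠ j) (p : A) :
    F (M0 (A := A) b) (Matrix.toLin b b (Matrix.transvection i j (algebraMap A K p))) = 0 := by
  unfold F
  rw [act_eq_of_isInt b _ (Matrix.transvection i j (algebraMap A K (-p)))
    (isInt_transvection i j p) (isInt_transvection i j (-p)) ?_, dist_self]
  rw [Matrix.transvection_mul_transvection_same i j hij, map_neg, add_neg_cancel,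
    Matrix.transvection_zero]

omit [IsDomain A] [IsNoetherianRing A] [Ring.KrullDimLE 1 A] [IsFractionRing A K] in
lemma diag_mul_transvection (i j : Fin n) (hij : i ≠ j) (p q : A) (c : K)
    (hc : algebraMap A K q * c = algebraMap A K p) :
    diagK (K := K) (fun k => if k = i then q else 1) * Matrix.transvection i j c =
      Matrix.transvection i j (algebraMap A K p) * diagK (K := K) (fun k => if k = i then q else 1) := by
  ext k l
  rw [Matrix.diagonal_mul, Matrix.mul_diagonal]
  simp only [Matrix.transvection, Matrix.add_apply, Matrix.one_apply, Matrix.single_apply]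
  by_cases hkl : k = l
  · subst hkl
    have h1 : ¬ (i = k ∧ j = k) := fun h => hij (h.1.trans h.2.symm)
    simp [h1, mul_comm]
  · by_cases h2 : i = k ∧ j = l
    · obtain ⟨rfl, rfl⟩ := h2
      simp [hkl, hc, Ne.symm hij]
    · simp [hkl, h2]

theorem F_toLin (N : Matrix (Fin n) (Fin n) K) (hN : N.det ≠ 0) :
    F (M0 (A := A) b) (Matrix.toLin b b N) = CycAlg.ordFrac A K N.det := by
  haveI := isLattice_M0 (A := A) b
  refine Matrix.diagonal_transvection_induction_of_det_ne_zero
    (fun N => F (M0 (A := A) b) (Matrix.toLin b b N) = CycAlg.ordFrac A K N.det) N hN ?_ ?_ ?_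
  · -- diagonal matrices
    intro d hd
    rw [Matrix.det_diagonal] at hd ⊢
    have hdi : ∀ i, d i ≠ 0 := fun i => Finset.prod_ne_zero_iff.mp hd i (Finset.mem_univ i)
    obtain ⟨y, hy⟩ := IsLocalization.exist_integer_multiples (nonZeroDivisors A) Finset.univ d
    have hy0 : (y : A) ≠ 0 := nonZeroDivisors.ne_zero y.2
    have hyK : algebraMap A K (y : A) ≠ 0 := by
      simpa using (IsFractionRing.injective A K).ne hy0
    choose x hx using fun i => hy i (Finset.mem_univ i)
    have hx' : ∀ i, algebraMap A K (x i) = algebraMap A K (y : A) * d i := by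
      intro i
      rw [hx i, Algebra.smul_def]
    have hx0 : ∀ i, x i ≠ 0 := by
      intro i h
      have := hx' i
      rw [h, map_zero] at this
      exact mul_ne_zero hyK (hdi i) this.symm
    have hmat : diagK (K := K) x = diagK (K := K) (fun _ => (y : A)) * Matrix.diagonal d := by
      rw [Matrix.diagonal_mul_diagonal]
      exact congrArg Matrix.diagonal (funext hx')
    have hdety : (diagK (K := K) (fun _ : Fin n => (y : A))).det ≠ 0 := by
      rw [Matrix.det_diagonal]
      exact Finset.prod_ne_zero_iff.mpr (fun _ _ => hyK)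
    have hdetd : (Matrix.diagonal d).det ≠ 0 := by rwa [Matrix.det_diagonal]
    have h1 := F_diag (K := K) b x hx0
    have h2 := F_diag (K := K) b (fun _ : Fin n => (y : A)) (fun _ => hy0)
    rw [hmat, Matrix.toLin_mul b b b, F_comp _ _ _ (bijective_toLin b _ hdety)
      (bijective_toLin b _ hdetd), h2] at h1
    rw [ordZ_prod (A := A) Finset.univ d (fun i _ => hdi i)]
    have h3 : ∀ i, ((Ring.ord A (x i)).toNat : ℤ) =
        ((Ring.ord A (y : A)).toNat : ℤ) + CycAlg.ordFrac A K (d i) := by
      intro i
      rw [← ordZ_algebraMap (K := K) (hx0 i), ← ordZ_algebraMap (K := K) hy0, hx' i,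
        ordZ_mul hyK (hdi i)]
    have h4 : ∑ i, ((Ring.ord A (x i)).toNat : ℤ) =
        ∑ _i : Fin n, ((Ring.ord A (y : A)).toNat : ℤ) + ∑ i, CycAlg.ordFrac A K (d i) := by
      rw [← Finset.sum_add_distrib]
      exact Finset.sum_congr rfl (fun i _ => h3 i)
    linarith
  · -- transvections
    intro t
    rw [Matrix.TransvectionStruct.det, ordZ_one]
    obtain ⟨p, q, hq, hc⟩ := IsFractionRing.div_surjective (A := A) t.c
    have hq0 : q ≠ 0 := nonZeroDivisors.ne_zero hq
    have hqK : algebraMap A K q ≠ 0 := by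
      simpa using (IsFractionRing.injective A K).ne hq0
    have hc' : algebraMap A K q * t.c = algebraMap A K p := by
      rw [← hc]; field_simp
    have hmat := diag_mul_transvection (K := K) t.i t.j t.hij p q t.c hc'
    set x : Fin n → A := fun k => if k = t.i then q else 1 with hxdef
    have hx0 : ∀ k, x k ≠ 0 := by
      intro k
      simp only [hxdef]
      split_ifs
      · exact hq0
      · exact one_ne_zero
    have hdetx : (diagK (K := K) x).det ≠ 0 := by
      rw [Matrix.det_diagonal]
      exact Finset.prod_ne_zero_iff.mpr (fun k _ => by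
        simpa using (IsFractionRing.injective A K).ne (hx0 k))
    have hdett : t.toMatrix.det ≠ 0 := by rw [Matrix.TransvectionStruct.det]; exact one_ne_zero
    have hdetT' : (Matrix.transvection t.i t.j (algebraMap A K p)).det ≠ 0 := by
      rw [Matrix.det_transvection_of_ne _ _ t.hij]; exact one_ne_zero
    have e1 : F (M0 (A := A) b) (Matrix.toLin b b (diagK (K := K) x * t.toMatrix)) =
        F (M0 (A := A) b) (Matrix.toLin b b (diagK (K := K) x)) +
          F (M0 (A := A) b) (Matrix.toLin b b t.toMatrix) := by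
      rw [Matrix.toLin_mul b b b, F_comp _ _ _ (bijective_toLin b _ hdetx)
        (bijective_toLin b _ hdett)]
    have e2 : F (M0 (A := A) b) (Matrix.toLin b b
        (Matrix.transvection t.i t.j (algebraMap A K p) * diagK (K := K) x)) =
        F (M0 (A := A) b) (Matrix.toLin b b (Matrix.transvection t.i t.j (algebraMap A K p))) +
          F (M0 (A := A) b) (Matrix.toLin b b (diagK (K := K) x)) := by
      rw [Matrix.toLin_mul b b b, F_comp _ _ _ (bijective_toLin b _ hdetT')
        (bijective_toLin b _ hdetx)]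
    have e3 : t.toMatrix = Matrix.transvection t.i t.j t.c := rfl
    rw [e3, hmat, e2, F_transvection_int b t.i t.j t.hij p] at e1
    rw [e3]
    linarith
  · intro N1 N2 h1 h2 p1 p2
    show F (M0 (A := A) b) (Matrix.toLin b b (N1 * N2)) = CycAlg.ordFrac A K (N1 * N2).det
    rw [Matrix.toLin_mul b b b, F_comp _ _ _ (bijective_toLin b N1 h1) (bijective_toLin b N2 h2),
      p1, p2, Matrix.det_mul, ordZ_mul h1 h2]

end Groth.Agent.Lib.Helper24.LatDist

namespace Groth.Agent.Lib.Helper24.LatDist

open Submodule Module Groth.Agent.Lib.Helper24.RelLen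

/-- lattice index of an automorphism = order of its determinant. -/
theorem main (A : Type*) [CommRing A] [IsDomain A] [IsNoetherianRing A]
    (hA : ringKrullDim A = 1) (K : Type*) [Field K] [Algebra A K]
    [IsFractionRing A K] (V : Type*) [AddCommGroup V] [Module K V] [Module A V]
    [IsScalarTower A K V] [FiniteDimensional K V]
    (M : Submodule A V) [Submodule.IsLattice K M] (φ : V ≃ₗ[K] V) :
    Submodule.IsLattice K (M.map (φ.toLinearMap.restrictScalars A)) ∧
      Module.length A (↥M ⧸ (M ⊓ M.map (φ.toLinearMap.restrictScalars A)).submoduleOf M) < ⊤ ∧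
      Module.length A (↥(M.map (φ.toLinearMap.restrictScalars A)) ⧸
          (M ⊓ M.map (φ.toLinearMap.restrictScalars A)).submoduleOf
            (M.map (φ.toLinearMap.restrictScalars A))) < ⊤ ∧
      ((Module.length A (↥M ⧸ (M ⊓ M.map (φ.toLinearMap.restrictScalars A)).submoduleOf M)).toNat : ℤ) -
          ((Module.length A (↥(M.map (φ.toLinearMap.restrictScalars A)) ⧸
            (M ⊓ M.map (φ.toLinearMap.restrictScalars A)).submoduleOf
              (M.map (φ.toLinearMap.restrictScalars A)))).toNat : ℤ) =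
        CycAlg.ordFrac A K (LinearMap.det φ.toLinearMap) := by
  haveI : Ring.KrullDimLE 1 A := (Ring.krullDimLE_iff).mpr (le_of_eq hA)
  have hφ : Function.Bijective φ.toLinearMap := φ.bijective
  haveI hlat : Submodule.IsLattice K (act φ.toLinearMap M) := isLattice_map M φ.toLinearMap hφ.2
  haveI := isLattice_inf (K := K) M (act φ.toLinearMap M)
  refine ⟨hlat, lt_top_iff_ne_top.mpr (rl_ne_top (K := K) (M ⊓ act φ.toLinearMap M) M),
    lt_top_iff_ne_top.mpr (rl_ne_top (K := K) (M ⊓ act φ.toLinearMap M) (act φ.toLinearMap M)), ?_⟩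
  change F M φ.toLinearMap = _
  let b := Module.finBasis K V
  haveI := isLattice_M0 (A := A) b
  rw [F_indep M (M0 (A := A) b) _ hφ]
  have h1 : φ.toLinearMap = Matrix.toLin b b (LinearMap.toMatrix b b φ.toLinearMap) :=
    (Matrix.toLin_toMatrix b b _).symm
  have hdet : (LinearMap.toMatrix b b φ.toLinearMap).det ≠ 0 := by
    rw [LinearMap.det_toMatrix]
    exact (LinearEquiv.isUnit_det' φ).ne_zero
  conv_lhs => rw [h1]
  rw [F_toLin b _ hdet, LinearMap.det_toMatrix]

end Groth.Agent.Lib.Helper24.LatDist
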