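import Mathlib
import Groth.Prelude.Def_Tame
import Groth.Agent.Lib.Helper24.Lattice.Main

/-!
# `length_A (B / r B) = ord (norm r)` for a finite extension of one-dimensional domains
-/

namespace Groth.Agent.Lib.Helper24.LatNorm

open Submodule Module Groth.Agent.Lib.Helper24.RelLen Groth.Agent.Lib.Helper24.LatDist

theorem main (A : Type*) [CommRing A] [IsDomain A]
    [IsNoetherianRing A] (hA : ringKrullDim A = 1) (B : Type*) [CommRing B]
    [IsDomain B] [Algebra A B] [Module.Finite A B]
    (K L : Type*) [Field K] [Field L] [Algebra A K] [IsFractionRing A K] [Algebra B L]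
    [IsFractionRing B L] [Algebra K L] [Algebra A L] [IsScalarTower A B L] [IsScalarTower A K L]
    [FiniteDimensional K L] (r : B) (hr : r ≠ 0) :
    Module.length A (B ⧸ Ideal.span {r}) < ⊤ ∧
      ((Module.length A (B ⧸ Ideal.span {r})).toNat : ℤ) =
        CycAlg.ordFrac A K (Algebra.norm K (algebraMap B L r)) := by
  classical
  haveI : Algebra.IsIntegral A B := inferInstance
  -- the lattice `M = image of B` in `L`
  let f : B →ₗ[A] L := (IsScalarTower.toAlgHom A B L).toLinearMap
  have hf : Function.Injective f := IsFractionRing.injective B L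
  have hfapp : ∀ x, f x = algebraMap B L x := fun _ => rfl
  let M : Submodule A L := LinearMap.range f
  have hMfg : M.FG := by
    show (LinearMap.range f).FG
    rw [LinearMap.range_eq_map]
    exact Submodule.FG.map _ (Module.Finite.fg_top)
  have hspan : Submodule.span K (M : Set L) = ⊤ := by
    rw [eq_top_iff]
    intro z _
    obtain ⟨⟨x, s⟩, hz⟩ := IsLocalization.surj (nonZeroDivisors B) z
    have hs0 : (s : B) ≠ 0 := nonZeroDivisors.ne_zero s.2
    -- a nonzero element of `A` in `s B`
    have hne : (Ideal.span {(s : B)}).comap (algebraMap A B) ≠ ⊥ :=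
      Ideal.comap_ne_bot_of_integral_mem hs0 (Ideal.mem_span_singleton_self _)
        (Algebra.IsIntegral.isIntegral _)
    obtain ⟨a, ha, ha0⟩ := Submodule.exists_mem_ne_zero_of_ne_bot hne
    rw [Ideal.mem_comap, Ideal.mem_span_singleton'] at ha
    obtain ⟨t, ht⟩ := ha
    have haK : algebraMap A K a ≠ 0 := by
      simpa using (IsFractionRing.injective A K).ne ha0
    have hsL : algebraMap B L (s : B) ≠ 0 := by
      simpa using (IsFractionRing.injective B L).ne hs0
    have hz' : z = (algebraMap A K a)⁻¹ • f (x * t) := by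
      have h1 : algebraMap K L (algebraMap A K a) = algebraMap B L (t * s) := by
        rw [← IsScalarTower.algebraMap_apply A K L, IsScalarTower.algebraMap_apply A B L, ht]
      have h1' : algebraMap K L (algebraMap A K a) ≠ 0 := by
        simpa using (algebraMap K L).injective.ne haK
      rw [Algebra.smul_def, map_inv₀, hfapp, inv_mul_eq_div, eq_div_iff h1', h1, map_mul, map_mul]
      simp only at hz
      rw [← hz]
      ring
    rw [hz']
    exact Submodule.smul_mem _ _ (Submodule.subset_span ⟨x * t, rfl⟩)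
  haveI hlat : Submodule.IsLattice K M := ⟨hMfg, hspan⟩
  -- the automorphism: multiplication by `ρ`
  set ρ : L := algebraMap B L r with hρ
  have hρ0 : ρ ≠ 0 := by
    simpa [hρ] using (IsFractionRing.injective B L).ne hr
  let φ : L ≃ₗ[K] L := LinearEquiv.ofLinear (LinearMap.mulLeft K ρ) (LinearMap.mulLeft K ρ⁻¹)
    (by ext x; simp [hρ0]) (by ext x; simp [hρ0])
  have hφ : φ.toLinearMap = Algebra.lmul K L ρ := by
    ext x; simp [φ]
  obtain ⟨-, hfin, -, hmain⟩ := LatDist.main A hA K L M φ
  have hdet : LinearMap.det φ.toLinearMap = Algebra.norm K ρ := by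
    rw [hφ, Algebra.norm_apply]
  rw [hdet] at hmain
  -- `φ M ≤ M`
  have hφM : M.map (φ.toLinearMap.restrictScalars A) ≤ M := by
    rintro _ ⟨_, ⟨x, rfl⟩, rfl⟩
    refine ⟨r * x, ?_⟩
    simp [φ, hfapp, hρ]
  have hinf : M ⊓ M.map (φ.toLinearMap.restrictScalars A) = M.map (φ.toLinearMap.restrictScalars A) :=
    inf_eq_right.mpr hφM
  have hzero : Module.length A (↥(M.map (φ.toLinearMap.restrictScalars A)) ⧸
      (M ⊓ M.map (φ.toLinearMap.restrictScalars A)).submoduleOf
        (M.map (φ.toLinearMap.restrictScalars A))) = 0 := by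
    rw [hinf]
    exact rl_self _
  -- identify `B / r B` with `M / (M ⊓ φ M)`
  let e : B ≃ₗ[A] ↥M := LinearEquiv.ofInjective f hf
  have hmap : ((Ideal.span {r}).restrictScalars A).map (e : B →ₗ[A] ↥M) =
      (M ⊓ M.map (φ.toLinearMap.restrictScalars A)).submoduleOf M := by
    rw [hinf]
    ext ⟨m, hm⟩
    simp only [Submodule.mem_map, Submodule.restrictScalars_mem, Submodule.submoduleOf,
      Submodule.mem_comap, Submodule.subtype_apply, LinearMap.coe_restrictScalars,
      LinearEquiv.coe_coe]
    constructor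
    · rintro ⟨y, hy, hye⟩
      rw [Ideal.mem_span_singleton'] at hy
      obtain ⟨c, rfl⟩ := hy
      refine ⟨f c, ⟨c, rfl⟩, ?_⟩
      have : f (c * r) = m := congrArg Subtype.val hye
      rw [← this]
      simp [φ, hfapp, hρ, mul_comm]
    · rintro ⟨_, ⟨c, rfl⟩, hc⟩
      refine ⟨c * r, Ideal.mem_span_singleton'.mpr ⟨c, rfl⟩, ?_⟩
      apply Subtype.ext
      change f (c * r) = m
      rw [← hc]
      simp [φ, hfapp, hρ, mul_comm]
  have hlen : Module.length A (B ⧸ Ideal.span {r}) =
      Module.length A (↥M ⧸ (M ⊓ M.map (φ.toLinearMap.restrictScalars A)).submoduleOf M) := by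
    rw [← (Submodule.Quotient.restrictScalarsEquiv A (Ideal.span {r})).length_eq]
    exact (Submodule.Quotient.equiv _ _ e hmap).length_eq
  rw [hlen]
  refine ⟨hfin, ?_⟩
  rw [hzero] at hmain
  simpa using hmain

end Groth.Agent.Lib.Helper24.LatNorm
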